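/-
Splitting off the `P`-primary part of a torsion quotient with `P`-divisible kernel.
-/
import Mathlib.Algebra.Category.Grp.Injective
import Mathlib.Algebra.Module.Torsion.Basic
import Mathlib.Data.Nat.Factorization.Induction
import Mathlib.RingTheory.Coprime.Lemmas

set_option autoImplicit false
set_option backward.isDefEq.respectTransparency false

universe u

namespace KatoTorLib

variable {A T : Type*} [AddCommGroup A] [AddCommGroup T] (P : Set ℕ)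

/-- A `P`-number. -/
def IsPNum (n : ℕ) : Prop := 0 < n ∧ ∀ p : ℕ, p.Prime → p ∣ n → p ∈ P

theorem IsPNum.one : IsPNum P 1 :=
  ⟨one_pos, fun p hp h => absurd (Nat.dvd_one.1 h) hp.ne_one⟩

variable {P}

theorem IsPNum.mul {a b : ℕ} (ha : IsPNum P a) (hb : IsPNum P b) : IsPNum P (a * b) :=
  ⟨mul_pos ha.1 hb.1, fun p hp h => ((Nat.Prime.dvd_mul hp).1 h).elim (ha.2 p hp) (hb.2 p hp)⟩

theorem coprime_of_isPNum {m n : ℕ} (hm : IsPNum P m) (hn : IsPNum Pᶜ n) : Nat.Coprime m n :=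
  Nat.coprime_of_dvd fun p hp h1 h2 => hn.2 p hp h2 (hm.2 p hp h1)

theorem eq_zero_of_coprime {G : Type*} [AddCommGroup G] {m n : ℕ} (h : Nat.Coprime m n) {x : G}
    (hm : m • x = 0) (hn : n • x = 0) : x = 0 := by
  rw [← AddMonoid.addOrderOf_eq_one_iff, ← Nat.dvd_one, ← h.gcd_eq_one]
  exact Nat.dvd_gcd (addOrderOf_dvd_of_nsmul_eq_zero hm) (addOrderOf_dvd_of_nsmul_eq_zero hn)

theorem exists_decomp (t : T) (n : ℕ) : 0 < n → n • t = 0 →
    ∃ t₁ t₂ : T, t = t₁ + t₂ ∧ (∃ m, IsPNum P m ∧ m • t₁ = 0) ∧ ∃ m, IsPNum Pᶜ m ∧ m • t₂ = 0 := by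
  induction n using Nat.recOnPrimeCoprime generalizing t with
  | zero => intro h; exact absurd h (lt_irrefl 0)
  | prime_pow p k hp =>
    intro hpos h
    by_cases hP : p ∈ P
    · exact ⟨t, 0, (add_zero t).symm, ⟨_, ⟨hpos, fun q hq hd =>
        ((Nat.prime_dvd_prime_iff_eq hq hp).1 (hq.dvd_of_dvd_pow hd)).symm ▸ hP⟩, h⟩,
        1, IsPNum.one _, smul_zero _⟩
    · exact ⟨0, t, (zero_add t).symm, ⟨1, IsPNum.one _, smul_zero _⟩, _, ⟨hpos, fun q hq hd =>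
        ((Nat.prime_dvd_prime_iff_eq hq hp).1 (hq.dvd_of_dvd_pow hd)).symm ▸ hP⟩, h⟩
  | coprime a b ha hb hab iha ihb =>
    intro _ h
    obtain ⟨u, v, huv⟩ : ∃ u v : ℤ, u * a + v * b = 1 :=
      Nat.isCoprime_iff_coprime.2 (by simpa using hab)
    obtain ⟨r₁, r₂, hr, ⟨m₁, hm₁, h₁⟩, m₂, hm₂, h₂⟩ := ihb (u • a • t) (by omega) (by
      rw [smul_comm, ← mul_nsmul, h, smul_zero])
    obtain ⟨s₁, s₂, hs, ⟨n₁, hn₁, k₁⟩, n₂, hn₂, k₂⟩ := iha (v • b • t) (by omega) (by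
      rw [smul_comm, ← mul_nsmul, mul_comm, h, smul_zero])
    have ht : t = u • a • t + v • b • t := by
      rw [← natCast_zsmul, ← natCast_zsmul, smul_smul, smul_smul, ← add_smul, huv, one_smul]
    refine ⟨r₁ + s₁, r₂ + s₂, ?_, ⟨_, hm₁.mul hn₁, ?_⟩, _, hm₂.mul hn₂, ?_⟩
    · rw [ht, hr, hs]; abel
    · rw [nsmul_add, mul_nsmul, h₁, smul_zero, mul_nsmul', k₁, smul_zero, add_zero]
    · rw [nsmul_add, mul_nsmul, h₂, smul_zero, mul_nsmul', k₂, smul_zero, add_zero]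

theorem surj_smul_of_isPNum {K : AddSubgroup A} (hD : ∀ ℓ ∈ P, ∀ x ∈ K, ∃ y ∈ K, ℓ • y = x)
    (n : ℕ) : IsPNum P n → ∀ x ∈ K, ∃ y ∈ K, n • y = x := by
  induction n using Nat.recOnMul with
  | zero => intro h; exact absurd h.1 (lt_irrefl 0)
  | one => exact fun _ x hx => ⟨x, hx, one_smul _ _⟩
  | prime p hp => exact fun h => hD p (h.2 p hp dvd_rfl)
  | mul a b iha ihb =>
    intro h x hx
    have ha : IsPNum P a := ⟨Nat.pos_of_mul_pos_right h.1,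
      fun q hq hd => h.2 q hq (hd.mul_right b)⟩
    have hb : IsPNum P b := ⟨Nat.pos_of_mul_pos_left h.1, fun q hq hd => h.2 q hq (hd.mul_left a)⟩
    obtain ⟨y, hy, rfl⟩ := iha ha x hx
    obtain ⟨z, hz, rfl⟩ := ihb hb y hy
    exact ⟨z, hz, mul_nsmul' z a b⟩

theorem main {A T : Type*} [AddCommGroup A] [AddCommGroup T] (P : Set ℕ) (hP : ∀ p ∈ P, p.Prime)
    (π : A →+ T) (hπ : Function.Surjective π) (hT : ∀ t : T, ∃ n : ℕ, 0 < n ∧ n • t = 0)
    (hD : ∀ ℓ ∈ P, ∀ x ∈ π.ker, ∃ y ∈ π.ker, ℓ • y = x)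
    (TP T' : AddSubgroup T)
    (hTP : ∀ t, t ∈ TP ↔ ∃ n : ℕ, 0 < n ∧ (∀ p : ℕ, p.Prime → p ∣ n → p ∈ P) ∧ n • t = 0)
    (hT' : ∀ t, t ∈ T' ↔ ∃ n : ℕ, 0 < n ∧ (∀ p : ℕ, p.Prime → p ∣ n → p ∉ P) ∧ n • t = 0) :
    (∀ ℓ ∈ P, ∀ x ∈ T'.comap π, ∃ y ∈ T'.comap π, ℓ • y = x) ∧
    ∃ s : TP →+ A, (∀ t : TP, π (s t) = (t : T)) ∧
      Function.Bijective (fun q : (T'.comap π) × TP => (q.1 : A) + s q.2) := by
  refine ⟨fun ℓ hℓ x hx => ?_, ?_⟩
  · obtain ⟨n, hn, hn', hnx⟩ := (hT' _).1 hx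
    have hcop : Nat.Coprime ℓ n := (hP ℓ hℓ).coprime_iff_not_dvd.2 fun hd => hn' ℓ (hP ℓ hℓ) hd hℓ
    obtain ⟨u, v, huv⟩ : ∃ u v : ℤ, u * ℓ + v * n = 1 :=
      Nat.isCoprime_iff_coprime.2 (by simpa using hcop)
    obtain ⟨z, hz, hzx⟩ := hD ℓ hℓ (n • x) (by rw [AddMonoidHom.mem_ker, map_nsmul, hnx])
    refine ⟨u • x + v • z, add_mem ((T'.comap π).zsmul_mem hx _) ?_, ?_⟩
    · show π (v • z) ∈ T'
      rw [map_zsmul, AddMonoidHom.mem_ker.1 hz, smul_zero]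
      exact zero_mem _
    · rw [smul_add, smul_comm ℓ v, hzx, ← natCast_zsmul, ← natCast_zsmul x n, smul_smul,
        smul_smul, ← add_smul, mul_comm (ℓ : ℤ), huv, one_smul]
  -- the `P`-primary part of `A`
  let AP : AddSubgroup A :=
    { carrier := {x | ∃ n, IsPNum P n ∧ n • x = 0}
      zero_mem' := ⟨1, IsPNum.one P, smul_zero _⟩
      add_mem' := fun {x y} ⟨n, hn, hx⟩ ⟨m, hm, hy⟩ => ⟨n * m, hn.mul hm, by
        rw [nsmul_add, mul_nsmul, hx, smul_zero, mul_nsmul', hy, smul_zero, add_zero]⟩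
      neg_mem' := fun {x} ⟨n, hn, hx⟩ => ⟨n, hn, by rw [smul_neg, hx, neg_zero]⟩ }
  let π' : AP →+ TP := (π.comp AP.subtype).codRestrict TP fun ⟨x, n, hn, hx⟩ =>
    (hTP _).2 ⟨n, hn.1, hn.2, by
      show n • π x = 0
      rw [← map_nsmul, hx, map_zero]⟩
  have hπ' : Function.Surjective π' := fun ⟨t, ht⟩ => by
    obtain ⟨n, hn, hn', hnt⟩ := (hTP t).1 ht
    obtain ⟨x, rfl⟩ := hπ t
    obtain ⟨y, hy, hyx⟩ := surj_smul_of_isPNum hD n ⟨hn, hn'⟩ (n • x)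
      (by rw [AddMonoidHom.mem_ker, map_nsmul, hnt])
    refine ⟨⟨x - y, n, ⟨hn, hn'⟩, by rw [smul_sub, hyx, sub_self]⟩, Subtype.ext ?_⟩
    show π (x - y) = π x
    rw [map_sub, AddMonoidHom.mem_ker.1 hy, sub_zero]
  let K := π'.ker
  have hdiv : ∀ n : ℕ, n ≠ 0 → ∀ k : K, ∃ l : K, n • l = k := fun n => by
    induction n using Nat.recOnMul with
    | zero => intro h; exact absurd rfl h
    | one => exact fun _ k => ⟨k, one_smul _ _⟩
    | prime p hp =>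
      rintro - ⟨⟨x, n, hn, hnx⟩, hk⟩
      have hxker : π x = 0 := congrArg Subtype.val (AddMonoidHom.mem_ker.1 hk)
      by_cases hpP : p ∈ P
      · obtain ⟨y, hy, hyx⟩ := hD p hpP x hxker
        refine ⟨⟨⟨y, p * n, IsPNum.mul ⟨hp.pos, fun q hq hd =>
          ((Nat.prime_dvd_prime_iff_eq hq hp).1 hd).symm ▸ hpP⟩ hn, by
            rw [mul_nsmul, hyx, hnx]⟩, AddMonoidHom.mem_ker.2 (Subtype.ext ?_)⟩, ?_⟩
        · exact AddMonoidHom.mem_ker.1 hy
        · exact Subtype.ext (Subtype.ext hyx)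
      · have hcop : Nat.Coprime p n := hp.coprime_iff_not_dvd.2 fun hd => hpP (hn.2 p hp hd)
        obtain ⟨u, v, huv⟩ : ∃ u v : ℤ, u * p + v * n = 1 :=
          Nat.isCoprime_iff_coprime.2 (by simpa using hcop)
        refine ⟨u • ⟨⟨x, n, hn, hnx⟩, hk⟩, Subtype.ext (Subtype.ext ?_)⟩
        show p • (u • x) = x
        rw [← natCast_zsmul] at hnx
        rw [← natCast_zsmul, smul_smul]
        calc ((p : ℤ) * u) • x = (u * p) • x + v • ((n : ℤ) • x) := by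
              rw [hnx, smul_zero, add_zero, mul_comm]
          _ = x := by rw [smul_smul, ← add_smul, huv, one_smul]
    | mul a b iha ihb =>
      intro h k
      obtain ⟨l, rfl⟩ := iha (left_ne_zero_of_mul h) k
      obtain ⟨m, rfl⟩ := ihb (right_ne_zero_of_mul h) l
      exact ⟨m, mul_nsmul' m a b⟩
  have hdivZ : ∀ n : ℤ, n ≠ 0 → ∀ k : K, ∃ l : K, n • l = k := fun n hn k => by
    obtain ⟨l, hl⟩ := hdiv n.natAbs (by simpa using hn) k
    rcases n.natAbs_eq with h | h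
    · exact ⟨l, by rw [h, natCast_zsmul, hl]⟩
    · exact ⟨-l, by rw [h, neg_zsmul, smul_neg, neg_neg, natCast_zsmul, hl]⟩
  choose d hd using hdivZ
  letI : DivisibleBy K ℤ :=
    { div := fun k n => if h : n = 0 then 0 else d n h k
      div_zero := fun k => dif_pos rfl
      div_cancel := fun {n} k hn => by
        show n • (if h : n = 0 then (0 : K) else d n h k) = k
        rw [dif_neg hn]
        exact hd n hn k }
  obtain ⟨ρ, hρ⟩ := (Module.Baer.of_divisible K).extension_property_addMonoidHom K.subtype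
    Subtype.val_injective (AddMonoidHom.id K)
  let σ : AP →+ AP := AddMonoidHom.id AP - K.subtype.comp ρ
  have hσ : ∀ x y : AP, π' x = π' y → σ x = σ y := fun x y h => by
    have hk : x - y ∈ K := by rw [AddMonoidHom.mem_ker, map_sub, h, sub_self]
    have := DFunLike.congr_fun hρ ⟨x - y, hk⟩
    simp only [AddMonoidHom.comp_apply, AddSubgroup.subtype_apply, AddMonoidHom.id_apply] at this
    rw [← sub_eq_zero, ← map_sub]
    simp [σ, this]
  have hσπ : ∀ x, π' (σ x) = π' x := fun x => by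
    simp only [σ, AddMonoidHom.sub_apply, AddMonoidHom.id_apply, AddMonoidHom.comp_apply, map_sub,
      AddSubgroup.subtype_apply, AddMonoidHom.mem_ker.1 (ρ x).2, sub_zero]
  choose g hg using hπ'
  let s : TP →+ A := AP.subtype.comp <| AddMonoidHom.mk' (fun t => σ (g t)) fun a b => by
    show σ (g (a + b)) = σ (g a) + σ (g b)
    rw [← map_add]
    exact hσ _ _ (by rw [map_add, hg, hg, hg])
  have hs : ∀ t : TP, π (s t) = (t : T) := fun t => by
    have := congrArg Subtype.val ((hσπ (g t)).trans (hg t))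
    exact this
  refine ⟨s, hs, ?_, ?_⟩
  · intro q r h
    have key : ∀ q : (T'.comap π) × TP, (q.1 : A) + s q.2 = 0 → q = 0 := fun q h => by
      have h' := congrArg π h
      rw [map_add, hs, map_zero] at h'
      have hq : (q.2 : T) = 0 := by
        obtain ⟨m, hm, hm', hmq⟩ := (hTP _).1 q.2.2
        obtain ⟨n, hn, hn', hnq⟩ := (hT' _).1 (show π q.1 ∈ T' from q.1.2)
        refine eq_zero_of_coprime (coprime_of_isPNum (P := P) ⟨hm, hm'⟩ ⟨hn, hn'⟩) hmq ?_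
        rw [show (q.2 : T) = -π q.1 from eq_neg_of_add_eq_zero_right h', smul_neg, hnq, neg_zero]
      have hq2 : q.2 = 0 := Subtype.ext hq
      rw [hq2, map_zero, add_zero] at h
      exact Prod.ext (Subtype.ext h) hq2
    refine sub_eq_zero.1 (key (q - r) ?_)
    simp only [Prod.fst_sub, Prod.snd_sub, AddSubgroup.coe_sub, map_sub]
    rw [sub_add_sub_comm, sub_eq_zero]
    exact h
  · intro a
    obtain ⟨n, hn, hnt⟩ := hT (π a)
    obtain ⟨t₁, t₂, ht, ⟨m₁, hm₁, h₁⟩, m₂, hm₂, h₂⟩ := exists_decomp (P := P) (π a) n hn hnt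
    have h1 : t₁ ∈ TP := (hTP _).2 ⟨m₁, hm₁.1, hm₁.2, h₁⟩
    have h2 : t₂ ∈ T' := (hT' _).2 ⟨m₂, hm₂.1, hm₂.2, h₂⟩
    refine ⟨(⟨a - s ⟨t₁, h1⟩, ?_⟩, ⟨t₁, h1⟩), by simp⟩
    show π (a - s ⟨t₁, h1⟩) ∈ T'
    rw [map_sub, hs, ht]
    simpa using h2

end KatoTorLib
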